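import Cfsg.Agent.Lib.J1.Data

/-! Kernel checks of the `J₁` tables. -/

set_option autoImplicit false

namespace Cfsg.Agent.J1

/-- All `i < n` satisfy `f`. -/
def allBelow (f : ℕ → Bool) : ℕ → Bool
  | 0 => true
  | n + 1 => f n && allBelow f n

theorem allBelow_spec {f : ℕ → Bool} : ∀ {n : ℕ}, allBelow f n = true → ∀ i < n, f i = true
  | 0, _, i, hi => absurd hi (Nat.not_lt_zero i)
  | n + 1, h, i, hi => by
    simp only [allBelow, Bool.and_eq_true] at h
    rcases Nat.lt_succ_iff_lt_or_eq.1 hi with hlt | rfl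
    · exact allBelow_spec h.2 i hlt
    · exact h.1

theorem chk_okH : allBelow (fun i => okB (getH i)) 660 = true := by decide +kernel

theorem chk_okT : allBelow (fun i => okB (getT i)) 266 = true := by decide +kernel

theorem chk_base : (okB idM && okB xM && okB yM && (getH 0).beq idM && (getT 0).beq idM) = true := by
  decide +kernel

/-- Product with a generator of the subgroup. -/
noncomputable def genOf : ℕ → M7
  | 0 => genA
  | _ => genB

theorem chk_hclose : allBelow (fun i =>
    Nat.blt (hR i 0) 660 && ((getH i).mul genA).beq (getH (hR i 0)) &&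
      Nat.blt (hR i 1) 660 && ((getH i).mul genB).beq (getH (hR i 1))) 660 = true := by
  decide +kernel

/-- `H i` is `H` of a smaller index times a generator. -/
noncomputable def parOk (i : ℕ) : Bool :=
  Nat.beq i 0 || (Nat.blt (field parTab 11 i / 2) i &&
    ((getH (field parTab 11 i / 2)).mul (genOf (field parTab 11 i % 2))).beq (getH i))

theorem chk_par : allBelow parOk 660 = true := by decide +kernel

theorem chk_inv : allBelow (fun i =>
    Nat.blt (hInv i) 660 && ((getH i).mul (getH (hInv i))).beq idM) 660 = true := by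
  decide +kernel

/-- Coset table entry check. -/
noncomputable def cosOk (c : ℕ) (j : ℕ) (G : M7) : Bool :=
  Nat.blt (c / 512) 660 && Nat.blt (c % 512) 266 &&
    ((getT j).mul G).beq ((getH (c / 512)).mul (getT (c % 512)))

theorem chk_cos : allBelow (fun j =>
    cosOk (field cosTab 19 (2 * j)) j xM && cosOk (field cosTab 19 (2 * j + 1)) j yM) 266 = true := by
  decide +kernel

/-- Double coset table entry check. -/
noncomputable def dcOk (c : ℕ) (k : ℕ) : Bool :=
  Nat.blt (c % 8) 5 && Nat.blt (c / 8 % 1024) 660 && Nat.blt (c / 8192) 660 &&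
    Nat.blt (dRep (c % 8)) 266 &&
    (((getH (c / 8 % 1024)).mul (getT (dRep (c % 8)))).mul (getH (c / 8192))).beq (getT k)

theorem chk_dc : allBelow (fun k => dcOk (field dcTab 23 k) k) 266 = true := by decide +kernel

def p2 (x : M7) : M7 := x.mul x
def p3 (x : M7) : M7 := (p2 x).mul x
def p5 (x : M7) : M7 := (p2 (p2 x)).mul x
def p9 (x : M7) : M7 := (p2 (p2 (p2 x))).mul x
def p10 (x : M7) : M7 := p2 (p5 x)

/-- The six maximal element orders. -/
def ordOf : ℕ → ℕ
  | 0 => 6
  | 1 => 7
  | 2 => 10
  | 3 => 11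
  | 4 => 15
  | _ => 19

/-- The power `x ^ ordOf c`. -/
def powOf : ℕ → M7 → M7
  | 0, x => p2 (p3 x)
  | 1, x => (p2 (p3 x)).mul x
  | 2, x => p10 x
  | 3, x => (p10 x).mul x
  | 4, x => p3 (p5 x)
  | _, x => (p2 (p9 x)).mul x

/-- Order check in the double coset of `d`. -/
noncomputable def ordOk (tab d m : ℕ) : Bool :=
  (powOf (field tab 3 m) ((getH m).mul (getT (dRep d)))).beq idM

end Cfsg.Agent.J1
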