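import Cfsg.Agent.Lib.J1.Checks

/-! Element orders in double coset 3. -/

set_option autoImplicit false

namespace Cfsg.Agent.J1

theorem chk_ord3 : allBelow (ordOk expTab3 3) 660 = true := by decide +kernel

end Cfsg.Agent.J1
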