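import Mathlib

/-!
7 × 7 matrices over `ZMod 11` packed into rows of 10-bit lanes, fast in the kernel.
-/

set_option autoImplicit false

namespace Cfsg.Agent.J1

/-- Seven lanes in one number. -/
def encL (x0 x1 x2 x3 x4 x5 x6 : ℕ) : ℕ :=
  x0 + 1024 * (x1 + 1024 * (x2 + 1024 * (x3 + 1024 * (x4 + 1024 * (x5 + 1024 * x6)))))

def lane0 (s : ℕ) : ℕ := s % 1024
def lane1 (s : ℕ) : ℕ := s / 1024 % 1024
def lane2 (s : ℕ) : ℕ := s / 1048576 % 1024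
def lane3 (s : ℕ) : ℕ := s / 1073741824 % 1024
def lane4 (s : ℕ) : ℕ := s / 1099511627776 % 1024
def lane5 (s : ℕ) : ℕ := s / 1125899906842624 % 1024
def lane6 (s : ℕ) : ℕ := s / 1152921504606846976 % 1024

/-- Reduce each lane modulo 11. -/
def red7 (s : ℕ) : ℕ :=
  encL (lane0 s % 11) (lane1 s % 11) (lane2 s % 11) (lane3 s % 11) (lane4 s % 11) (lane5 s % 11)
    (lane6 s % 11)

/-- A packed matrix. -/
structure M7 where
  (r0 r1 r2 r3 r4 r5 r6 : ℕ)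

/-- Packed row times packed matrix. -/
def rowMul (r : ℕ) (B : M7) : ℕ :=
  red7 (lane0 r * B.r0 + lane1 r * B.r1 + lane2 r * B.r2 + lane3 r * B.r3 + lane4 r * B.r4
    + lane5 r * B.r5 + lane6 r * B.r6)

/-- Packed product. -/
def M7.mul (A B : M7) : M7 :=
  ⟨rowMul A.r0 B, rowMul A.r1 B, rowMul A.r2 B, rowMul A.r3 B, rowMul A.r4 B, rowMul A.r5 B,
    rowMul A.r6 B⟩

/-- Packed equality. -/
def M7.beq (A B : M7) : Bool :=
  Nat.beq A.r0 B.r0 && Nat.beq A.r1 B.r1 && Nat.beq A.r2 B.r2 && Nat.beq A.r3 B.r3 &&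
    Nat.beq A.r4 B.r4 && Nat.beq A.r5 B.r5 && Nat.beq A.r6 B.r6

theorem M7.eq_of_beq {A B : M7} (h : A.beq B = true) : A = B := by
  cases A; cases B
  simp only [M7.beq, Bool.and_eq_true] at h
  obtain ⟨⟨⟨⟨⟨⟨h0, h1⟩, h2⟩, h3⟩, h4⟩, h5⟩, h6⟩ := h
  rw [Nat.eq_of_beq_eq_true h0, Nat.eq_of_beq_eq_true h1, Nat.eq_of_beq_eq_true h2,
    Nat.eq_of_beq_eq_true h3, Nat.eq_of_beq_eq_true h4, Nat.eq_of_beq_eq_true h5,
    Nat.eq_of_beq_eq_true h6]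

theorem lanes_encL {x0 x1 x2 x3 x4 x5 x6 : ℕ} (h0 : x0 < 1024) (h1 : x1 < 1024) (h2 : x2 < 1024)
    (h3 : x3 < 1024) (h4 : x4 < 1024) (h5 : x5 < 1024) (h6 : x6 < 1024) :
    lane0 (encL x0 x1 x2 x3 x4 x5 x6) = x0 ∧ lane1 (encL x0 x1 x2 x3 x4 x5 x6) = x1 ∧
    lane2 (encL x0 x1 x2 x3 x4 x5 x6) = x2 ∧ lane3 (encL x0 x1 x2 x3 x4 x5 x6) = x3 ∧
    lane4 (encL x0 x1 x2 x3 x4 x5 x6) = x4 ∧ lane5 (encL x0 x1 x2 x3 x4 x5 x6) = x5 ∧
    lane6 (encL x0 x1 x2 x3 x4 x5 x6) = x6 := by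
  simp only [lane0, lane1, lane2, lane3, lane4, lane5, lane6, encL]
  refine ⟨?_, ?_, ?_, ?_, ?_, ?_, ?_⟩ <;> omega

theorem lane_lt (s : ℕ) :
    lane0 s < 1024 ∧ lane1 s < 1024 ∧ lane2 s < 1024 ∧ lane3 s < 1024 ∧ lane4 s < 1024 ∧
      lane5 s < 1024 ∧ lane6 s < 1024 := by
  simp only [lane0, lane1, lane2, lane3, lane4, lane5, lane6]
  refine ⟨?_, ?_, ?_, ?_, ?_, ?_, ?_⟩ <;> omega

theorem red7_encL {x0 x1 x2 x3 x4 x5 x6 : ℕ} (h0 : x0 < 1024) (h1 : x1 < 1024) (h2 : x2 < 1024)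
    (h3 : x3 < 1024) (h4 : x4 < 1024) (h5 : x5 < 1024) (h6 : x6 < 1024) :
    red7 (encL x0 x1 x2 x3 x4 x5 x6) =
      encL (x0 % 11) (x1 % 11) (x2 % 11) (x3 % 11) (x4 % 11) (x5 % 11) (x6 % 11) := by
  obtain ⟨a, b, c, d, e, f, g⟩ := lanes_encL h0 h1 h2 h3 h4 h5 h6
  rw [red7, a, b, c, d, e, f, g]

/-- A row with all lanes below 11. -/
def OkRow (r : ℕ) : Prop :=
  ∃ x0 x1 x2 x3 x4 x5 x6 : ℕ, r = encL x0 x1 x2 x3 x4 x5 x6 ∧ x0 < 11 ∧ x1 < 11 ∧ x2 < 11 ∧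
    x3 < 11 ∧ x4 < 11 ∧ x5 < 11 ∧ x6 < 11

theorem okRow_red7 (s : ℕ) : OkRow (red7 s) := by
  refine ⟨_, _, _, _, _, _, _, rfl, ?_, ?_, ?_, ?_, ?_, ?_, ?_⟩ <;> exact Nat.mod_lt _ (by norm_num)

theorem okRow_of_red {r : ℕ} (h : Nat.beq (red7 r) r = true) : OkRow r :=
  Nat.eq_of_beq_eq_true h ▸ okRow_red7 r

/-- The lanes of a row as a vector. -/
def rowVec (r : ℕ) : Fin 7 → ZMod 11 :=
  ![(lane0 r : ZMod 11), (lane1 r : ZMod 11), (lane2 r : ZMod 11), (lane3 r : ZMod 11),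
    (lane4 r : ZMod 11), (lane5 r : ZMod 11), (lane6 r : ZMod 11)]

/-- The matrix of a packed matrix. -/
def M7.toMat (A : M7) : Matrix (Fin 7) (Fin 7) (ZMod 11) :=
  Matrix.of ![rowVec A.r0, rowVec A.r1, rowVec A.r2, rowVec A.r3, rowVec A.r4, rowVec A.r5,
    rowVec A.r6]

/-- All rows are reduced. -/
def Ok (A : M7) : Prop :=
  OkRow A.r0 ∧ OkRow A.r1 ∧ OkRow A.r2 ∧ OkRow A.r3 ∧ OkRow A.r4 ∧ OkRow A.r5 ∧ OkRow A.r6

/-- Boolean test for `Ok`. -/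
def okB (A : M7) : Bool :=
  Nat.beq (red7 A.r0) A.r0 && Nat.beq (red7 A.r1) A.r1 && Nat.beq (red7 A.r2) A.r2 &&
    Nat.beq (red7 A.r3) A.r3 && Nat.beq (red7 A.r4) A.r4 && Nat.beq (red7 A.r5) A.r5 &&
    Nat.beq (red7 A.r6) A.r6

theorem ok_of_okB {A : M7} (h : okB A = true) : Ok A := by
  simp only [okB, Bool.and_eq_true] at h
  obtain ⟨⟨⟨⟨⟨⟨h0, h1⟩, h2⟩, h3⟩, h4⟩, h5⟩, h6⟩ := h
  exact ⟨okRow_of_red h0, okRow_of_red h1, okRow_of_red h2, okRow_of_red h3, okRow_of_red h4,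
    okRow_of_red h5, okRow_of_red h6⟩

theorem ok_mul (A B : M7) : Ok (A.mul B) :=
  ⟨okRow_red7 _, okRow_red7 _, okRow_red7 _, okRow_red7 _, okRow_red7 _, okRow_red7 _, okRow_red7 _⟩

theorem rowVec_inj {r s : ℕ} (hr : OkRow r) (hs : OkRow s) (h : rowVec r = rowVec s) : r = s := by
  obtain ⟨a0, a1, a2, a3, a4, a5, a6, rfl, p0, p1, p2, p3, p4, p5, p6⟩ := hr
  obtain ⟨b0, b1, b2, b3, b4, b5, b6, rfl, q0, q1, q2, q3, q4, q5, q6⟩ := hs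
  obtain ⟨e0, e1, e2, e3, e4, e5, e6⟩ := lanes_encL (x0 := a0) (x1 := a1) (x2 := a2) (x3 := a3)
    (x4 := a4) (x5 := a5) (x6 := a6) (by omega) (by omega) (by omega) (by omega) (by omega)
    (by omega) (by omega)
  obtain ⟨f0, f1, f2, f3, f4, f5, f6⟩ := lanes_encL (x0 := b0) (x1 := b1) (x2 := b2) (x3 := b3)
    (x4 := b4) (x5 := b5) (x6 := b6) (by omega) (by omega) (by omega) (by omega) (by omega)
    (by omega) (by omega)
  have key : ∀ {x y : ℕ}, x < 11 → y < 11 → (x : ZMod 11) = (y : ZMod 11) → x = y :=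
    fun hx hy e => by
      have := congrArg ZMod.val e
      rwa [ZMod.val_natCast_of_lt hx, ZMod.val_natCast_of_lt hy] at this
  simp only [rowVec, e0, e1, e2, e3, e4, e5, e6, f0, f1, f2, f3, f4, f5, f6] at h
  rw [key p0 q0 (congrFun h 0), key p1 q1 (congrFun h 1), key p2 q2 (congrFun h 2),
    key p3 q3 (congrFun h 3), key p4 q4 (congrFun h 4), key p5 q5 (congrFun h 5),
    key p6 q6 (congrFun h 6)]

theorem M7.toMat_inj {A B : M7} (hA : Ok A) (hB : Ok B) (h : A.toMat = B.toMat) : A = B := by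
  cases A; cases B
  obtain ⟨a0, a1, a2, a3, a4, a5, a6⟩ := hA
  obtain ⟨b0, b1, b2, b3, b4, b5, b6⟩ := hB
  simp only [M7.mk.injEq]
  exact ⟨rowVec_inj a0 b0 (congrFun h 0), rowVec_inj a1 b1 (congrFun h 1),
    rowVec_inj a2 b2 (congrFun h 2), rowVec_inj a3 b3 (congrFun h 3),
    rowVec_inj a4 b4 (congrFun h 4), rowVec_inj a5 b5 (congrFun h 5),
    rowVec_inj a6 b6 (congrFun h 6)⟩

theorem rowVec_rowMul {r : ℕ} {B : M7} (hr : OkRow r) (hB : Ok B) :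
    rowVec (rowMul r B) = Matrix.vecMul (rowVec r) B.toMat := by
  obtain ⟨a0, a1, a2, a3, a4, a5, a6, rfl, p0, p1, p2, p3, p4, p5, p6⟩ := hr
  cases B with | mk s0 s1 s2 s3 s4 s5 s6 =>
  obtain ⟨b0, b1, b2, b3, b4, b5, b6⟩ := hB
  obtain ⟨e0, e1, e2, e3, e4, e5, e6⟩ := lanes_encL (x0 := a0) (x1 := a1) (x2 := a2) (x3 := a3)
    (x4 := a4) (x5 := a5) (x6 := a6) (by omega) (by omega) (by omega) (by omega) (by omega)
    (by omega) (by omega)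
  obtain ⟨c00, c01, c02, c03, c04, c05, c06, rfl, q00, q01, q02, q03, q04, q05, q06⟩ := b0
  obtain ⟨c10, c11, c12, c13, c14, c15, c16, rfl, q10, q11, q12, q13, q14, q15, q16⟩ := b1
  obtain ⟨c20, c21, c22, c23, c24, c25, c26, rfl, q20, q21, q22, q23, q24, q25, q26⟩ := b2
  obtain ⟨c30, c31, c32, c33, c34, c35, c36, rfl, q30, q31, q32, q33, q34, q35, q36⟩ := b3
  obtain ⟨c40, c41, c42, c43, c44, c45, c46, rfl, q40, q41, q42, q43, q44, q45, q46⟩ := b4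
  obtain ⟨c50, c51, c52, c53, c54, c55, c56, rfl, q50, q51, q52, q53, q54, q55, q56⟩ := b5
  obtain ⟨c60, c61, c62, c63, c64, c65, c66, rfl, q60, q61, q62, q63, q64, q65, q66⟩ := b6
  have hsum : a0 * encL c00 c01 c02 c03 c04 c05 c06 + a1 * encL c10 c11 c12 c13 c14 c15 c16
      + a2 * encL c20 c21 c22 c23 c24 c25 c26 + a3 * encL c30 c31 c32 c33 c34 c35 c36
      + a4 * encL c40 c41 c42 c43 c44 c45 c46 + a5 * encL c50 c51 c52 c53 c54 c55 c56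
      + a6 * encL c60 c61 c62 c63 c64 c65 c66 =
      encL (a0 * c00 + a1 * c10 + a2 * c20 + a3 * c30 + a4 * c40 + a5 * c50 + a6 * c60)
        (a0 * c01 + a1 * c11 + a2 * c21 + a3 * c31 + a4 * c41 + a5 * c51 + a6 * c61)
        (a0 * c02 + a1 * c12 + a2 * c22 + a3 * c32 + a4 * c42 + a5 * c52 + a6 * c62)
        (a0 * c03 + a1 * c13 + a2 * c23 + a3 * c33 + a4 * c43 + a5 * c53 + a6 * c63)
        (a0 * c04 + a1 * c14 + a2 * c24 + a3 * c34 + a4 * c44 + a5 * c54 + a6 * c64)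
        (a0 * c05 + a1 * c15 + a2 * c25 + a3 * c35 + a4 * c45 + a5 * c55 + a6 * c65)
        (a0 * c06 + a1 * c16 + a2 * c26 + a3 * c36 + a4 * c46 + a5 * c56 + a6 * c66) := by
    simp only [encL]; ring
  have bd : ∀ {x0 x1 x2 x3 x4 x5 x6 : ℕ}, x0 < 11 → x1 < 11 → x2 < 11 → x3 < 11 → x4 < 11 →
      x5 < 11 → x6 < 11 →
      a0 * x0 + a1 * x1 + a2 * x2 + a3 * x3 + a4 * x4 + a5 * x5 + a6 * x6 < 1024 := by
    intro x0 x1 x2 x3 x4 x5 x6 h0 h1 h2 h3 h4 h5 h6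
    have hm : ∀ {u v : ℕ}, u < 11 → v < 11 → u * v ≤ 100 := fun hu hv =>
      Nat.mul_le_mul (Nat.le_of_lt_succ hu) (Nat.le_of_lt_succ hv)
    have := hm p0 h0; have := hm p1 h1; have := hm p2 h2; have := hm p3 h3
    have := hm p4 h4; have := hm p5 h5; have := hm p6 h6
    omega
  have hl : ∀ {x0 x1 x2 x3 x4 x5 x6 : ℕ}, x0 < 11 → x1 < 11 → x2 < 11 → x3 < 11 → x4 < 11 →
      x5 < 11 → x6 < 11 → rowVec (encL x0 x1 x2 x3 x4 x5 x6) =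
      ![(x0 : ZMod 11), x1, x2, x3, x4, x5, x6] := by
    intro x0 x1 x2 x3 x4 x5 x6 h0 h1 h2 h3 h4 h5 h6
    obtain ⟨g0, g1, g2, g3, g4, g5, g6⟩ := lanes_encL (x0 := x0) (x1 := x1) (x2 := x2) (x3 := x3)
      (x4 := x4) (x5 := x5) (x6 := x6) (by omega) (by omega) (by omega) (by omega) (by omega)
      (by omega) (by omega)
    simp only [rowVec, g0, g1, g2, g3, g4, g5, g6]
  have hm11 : ∀ u : ℕ, u % 11 < 11 := fun u => Nat.mod_lt _ (by norm_num)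
  simp only [rowMul, e0, e1, e2, e3, e4, e5, e6, hsum]
  rw [red7_encL (bd q00 q10 q20 q30 q40 q50 q60) (bd q01 q11 q21 q31 q41 q51 q61)
    (bd q02 q12 q22 q32 q42 q52 q62) (bd q03 q13 q23 q33 q43 q53 q63)
    (bd q04 q14 q24 q34 q44 q54 q64) (bd q05 q15 q25 q35 q45 q55 q65)
    (bd q06 q16 q26 q36 q46 q56 q66),
    hl (hm11 _) (hm11 _) (hm11 _) (hm11 _) (hm11 _) (hm11 _) (hm11 _), hl p0 p1 p2 p3 p4 p5 p6]
  funext k
  simp only [M7.toMat, hl q00 q01 q02 q03 q04 q05 q06, hl q10 q11 q12 q13 q14 q15 q16,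
    hl q20 q21 q22 q23 q24 q25 q26, hl q30 q31 q32 q33 q34 q35 q36,
    hl q40 q41 q42 q43 q44 q45 q46, hl q50 q51 q52 q53 q54 q55 q56,
    hl q60 q61 q62 q63 q64 q65 q66]
  fin_cases k <;> simp [Matrix.vecMul, dotProduct, Fin.sum_univ_seven, ZMod.natCast_mod]

theorem M7.toMat_mul {A B : M7} (hA : Ok A) (hB : Ok B) :
    (A.mul B).toMat = A.toMat * B.toMat := by
  obtain ⟨a0, a1, a2, a3, a4, a5, a6⟩ := hA
  funext i
  rw [Matrix.mul_apply_eq_vecMul]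
  fin_cases i
  · exact rowVec_rowMul a0 hB
  · exact rowVec_rowMul a1 hB
  · exact rowVec_rowMul a2 hB
  · exact rowVec_rowMul a3 hB
  · exact rowVec_rowMul a4 hB
  · exact rowVec_rowMul a5 hB
  · exact rowVec_rowMul a6 hB

end Cfsg.Agent.J1
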