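import Cfsg.Agent.Lib.J1.Orders0
import Cfsg.Agent.Lib.J1.Orders1
import Cfsg.Agent.Lib.J1.Orders2
import Cfsg.Agent.Lib.J1.Orders3
import Cfsg.Agent.Lib.J1.Orders4
import Cfsg.Prelude.Def_Spor_J1

/-!
`Spor.J1`: every element has order dividing one of 6, 7, 10, 11, 15, 19, and all six occur.
-/

set_option autoImplicit false

namespace Cfsg.Agent.J1

open Cfsg.Spor

attribute [local irreducible] getH getT field dRep hInv hR genA genB xM yM idM

/-- Matrices of the subgroup of order 660. -/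
def InH (M : Matrix (Fin 7) (Fin 7) (ZMod 11)) : Prop := ∃ i, i < 660 ∧ M = (getH i).toMat

/-- Matrices in the union of the 266 cosets. -/
def InCov (M : Matrix (Fin 7) (Fin 7) (ZMod 11)) : Prop :=
  ∃ i j, i < 660 ∧ j < 266 ∧ M = (getH i).toMat * (getT j).toMat

theorem okH {i : ℕ} (h : i < 660) : Ok (getH i) := ok_of_okB (allBelow_spec chk_okH i h)

theorem okT {i : ℕ} (h : i < 266) : Ok (getT i) := ok_of_okB (allBelow_spec chk_okT i h)

theorem base_facts : Ok idM ∧ Ok xM ∧ Ok yM ∧ getH 0 = idM ∧ getT 0 = idM := by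
  have h := chk_base
  simp only [Bool.and_eq_true] at h
  obtain ⟨⟨⟨⟨h1, h2⟩, h3⟩, h4⟩, h5⟩ := h
  exact ⟨ok_of_okB h1, ok_of_okB h2, ok_of_okB h3, M7.eq_of_beq h4, M7.eq_of_beq h5⟩

theorem toMat_id : idM.toMat = 1 := by decide +kernel

theorem toMat_x : xM.toMat = jankoMatrixX := by decide +kernel

theorem toMat_y : yM.toMat = jankoMatrixY := by decide +kernel

theorem getH_zero : (getH 0).toMat = 1 := by rw [base_facts.2.2.2.1, toMat_id]

theorem ok_gens : Ok genA ∧ Ok genB :=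
  ⟨ok_of_okB (by decide +kernel), ok_of_okB (by decide +kernel)⟩

theorem ok_genOf (g : ℕ) : Ok (genOf g) := by
  match g with
  | 0 => exact ok_gens.1
  | n + 1 => exact ok_gens.2

theorem inH_mul_gen {M : Matrix (Fin 7) (Fin 7) (ZMod 11)} (hM : InH M) (g : ℕ) :
    InH (M * (genOf g).toMat) := by
  obtain ⟨i, hi, rfl⟩ := hM
  have h := allBelow_spec chk_hclose i hi
  simp only [Bool.and_eq_true, Nat.blt_eq] at h
  obtain ⟨⟨⟨a, b⟩, c⟩, e⟩ := h
  match g with
  | 0 => exact ⟨_, a, by rw [← M7.eq_of_beq b, M7.toMat_mul (okH hi) ok_gens.1]; rfl⟩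
  | n + 1 => exact ⟨_, c, by rw [← M7.eq_of_beq e, M7.toMat_mul (okH hi) ok_gens.2]; rfl⟩

theorem inH_mul_getH : ∀ (u : ℕ), u < 660 → ∀ {M}, InH M → InH (M * (getH u).toMat) := by
  intro u
  induction u using Nat.strong_induction_on with
  | _ u ih =>
    intro hu M hM
    have h := allBelow_spec chk_par u hu
    simp only [parOk, Bool.or_eq_true, Bool.and_eq_true, Nat.blt_eq] at h
    rcases h with h | ⟨hlt, h⟩
    · rw [Nat.eq_of_beq_eq_true h, getH_zero, mul_one]; exact hM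
    · rw [← M7.eq_of_beq h, M7.toMat_mul (okH (hlt.trans hu)) (ok_genOf _), ← mul_assoc]
      exact inH_mul_gen (ih _ hlt (hlt.trans hu) hM) _

theorem inCov_one : InCov 1 :=
  ⟨0, 0, by norm_num, by norm_num, by
    rw [base_facts.2.2.2.1, base_facts.2.2.2.2, toMat_id, mul_one]⟩

theorem inCov_step {c j i : ℕ} {G : M7} (hG : Ok G) (hi : i < 660) (hj : j < 266)
    (h : cosOk c j G = true) : InCov ((getH i).toMat * (getT j).toMat * G.toMat) := by
  simp only [cosOk, Bool.and_eq_true, Nat.blt_eq] at h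
  obtain ⟨⟨a, b⟩, e⟩ := h
  obtain ⟨u, hu, he⟩ := inH_mul_getH _ a ⟨i, hi, rfl⟩
  refine ⟨u, c % 512, hu, b, ?_⟩
  rw [mul_assoc, ← M7.toMat_mul (okT hj) hG, M7.eq_of_beq e, M7.toMat_mul (okH a) (okT b),
    ← mul_assoc, he]

theorem inCov_gen {M : Matrix (Fin 7) (Fin 7) (ZMod 11)} (hM : InCov M) :
    InCov (M * jankoMatrixX) ∧ InCov (M * jankoMatrixY) := by
  obtain ⟨i, j, hi, hj, rfl⟩ := hM
  have h := allBelow_spec chk_cos j hj
  simp only [Bool.and_eq_true] at h
  rw [← toMat_x, ← toMat_y]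
  exact ⟨inCov_step base_facts.2.1 hi hj h.1, inCov_step base_facts.2.2.1 hi hj h.2⟩

/-- Every element of `J₁` lies in one of the cosets. -/
theorem inCov_of_mem {g : GL (Fin 7) (ZMod 11)} (hg : g ∈ Cfsg.Spor.J1) :
    InCov (g : Matrix (Fin 7) (Fin 7) (ZMod 11)) := by
  suffices h : ∀ M, InCov M → InCov (M * (g : Matrix (Fin 7) (Fin 7) (ZMod 11))) by
    simpa using h 1 inCov_one
  induction hg using Subgroup.closure_induction with
  | mem x hx =>
    rcases hx with rfl | rfl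
    · exact fun M hM => (inCov_gen hM).1
    · exact fun M hM => (inCov_gen hM).2
  | one => intro M hM; simpa using hM
  | mul x y _ _ hx hy => intro M hM; rw [Units.val_mul, ← mul_assoc]; exact hy _ (hx _ hM)
  | inv x _ hx =>
    have hpow : ∀ (n : ℕ) M, InCov M →
        InCov (M * ((x ^ n : GL (Fin 7) (ZMod 11)) : Matrix (Fin 7) (Fin 7) (ZMod 11))) := by
      intro n
      induction n with
      | zero => intro M hM; simpa using hM
      | succ n ih => intro M hM; rw [pow_succ, Units.val_mul, ← mul_assoc]; exact hx _ (ih _ hM)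
    have : Finite (GL (Fin 7) (ZMod 11)) := Finite.of_injective _ Units.val_injective
    obtain ⟨n, hn⟩ : ∃ n : ℕ, x⁻¹ = x ^ n := ⟨orderOf x - 1, by
      rw [inv_eq_iff_mul_eq_one, ← pow_succ', Nat.sub_add_cancel (orderOf_pos x), pow_orderOf_eq_one]⟩
    intro M hM
    rw [hn]
    exact hpow n M hM

theorem powOf_toMat {x : M7} (hx : Ok x) (c : ℕ) : (powOf c x).toMat = x.toMat ^ ordOf c := by
  have h2 : ∀ {y : M7}, Ok y → (p2 y).toMat = y.toMat ^ 2 := fun hy => by
    rw [p2, M7.toMat_mul hy hy, pow_two]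
  have h3 : ∀ {y : M7}, Ok y → (p3 y).toMat = y.toMat ^ 3 := fun {y} hy => by
    rw [p3, M7.toMat_mul (A := p2 y) (ok_mul _ _) hy, h2 hy, ← pow_succ]
  have h5 : ∀ {y : M7}, Ok y → (p5 y).toMat = y.toMat ^ 5 := fun {y} hy => by
    rw [p5, M7.toMat_mul (A := p2 (p2 y)) (ok_mul _ _) hy, h2 (y := p2 y) (ok_mul _ _), h2 hy,
      ← pow_mul, ← pow_succ]
  have h9 : ∀ {y : M7}, Ok y → (p9 y).toMat = y.toMat ^ 9 := fun {y} hy => by
    rw [p9, M7.toMat_mul (A := p2 (p2 (p2 y))) (ok_mul _ _) hy,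
      h2 (y := p2 (p2 y)) (ok_mul _ _), h2 (y := p2 y) (ok_mul _ _), h2 hy, ← pow_mul, ← pow_mul,
      ← pow_succ]
  have h10 : (p10 x).toMat = x.toMat ^ 10 := by
    rw [p10, h2 (y := p5 x) (ok_mul _ _), h5 hx, ← pow_mul]
  match c with
  | 0 => simp only [powOf, ordOf]; rw [h2 (y := p3 x) (ok_mul _ _), h3 hx, ← pow_mul]
  | 1 =>
    simp only [powOf, ordOf]
    rw [M7.toMat_mul (A := p2 (p3 x)) (ok_mul _ _) hx, h2 (y := p3 x) (ok_mul _ _), h3 hx,
      ← pow_mul, ← pow_succ]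
  | 2 => simp only [powOf, ordOf]; exact h10
  | 3 => simp only [powOf, ordOf]; rw [M7.toMat_mul (A := p10 x) (ok_mul _ _) hx, h10, ← pow_succ]
  | 4 => simp only [powOf, ordOf]; rw [h3 (y := p5 x) (ok_mul _ _), h5 hx, ← pow_mul]
  | n + 5 =>
    simp only [powOf, ordOf]
    rw [M7.toMat_mul (A := p2 (p9 x)) (ok_mul _ _) hx, h2 (y := p9 x) (ok_mul _ _), h9 hx,
      ← pow_mul, ← pow_succ]

theorem ordOf_mem (c : ℕ) : ordOf c ∈ ([6, 7, 10, 11, 15, 19] : List ℕ) := by
  match c with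
  | 0 | 1 | 2 | 3 | 4 => decide
  | n + 5 => simp [ordOf]

theorem exists_pow_coset {d m : ℕ} (hd : d < 5) (hm : m < 660) :
    ∃ n ∈ ([6, 7, 10, 11, 15, 19] : List ℕ),
      ((getH m).toMat * (getT (dRep d)).toMat) ^ n = 1 := by
  have hdr : dRep d < 266 := by
    have : ∀ e < 5, dRep e < 266 := by decide +kernel
    exact this d hd
  have fin : ∀ (tab : ℕ), ordOk tab d m = true →
      ∃ n ∈ ([6, 7, 10, 11, 15, 19] : List ℕ),
        ((getH m).toMat * (getT (dRep d)).toMat) ^ n = 1 := fun tab h =>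
    ⟨_, ordOf_mem (field tab 3 m), by
      rw [← M7.toMat_mul (okH hm) (okT hdr), ← powOf_toMat (ok_mul _ _), M7.eq_of_beq h, toMat_id]⟩
  match d, hd with
  | 0, _ => exact fin _ (allBelow_spec chk_ord0 m hm)
  | 1, _ => exact fin _ (allBelow_spec chk_ord1 m hm)
  | 2, _ => exact fin _ (allBelow_spec chk_ord2 m hm)
  | 3, _ => exact fin _ (allBelow_spec chk_ord3 m hm)
  | 4, _ => exact fin _ (allBelow_spec chk_ord4 m hm)

theorem pow_conj_eq_one {R : Type*} [Monoid R] {b b' y : R} (h : b * b' = 1) (h' : b' * b = 1)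
    {n : ℕ} (hy : y ^ n = 1) : (b' * y * b) ^ n = 1 := by
  have key : ∀ k : ℕ, (b' * y * b) ^ k = b' * y ^ k * b := by
    intro k
    induction k with
    | zero => rw [pow_zero, pow_zero, mul_one, h']
    | succ k ih =>
      rw [pow_succ, ih, pow_succ]
      calc b' * y ^ k * b * (b' * y * b) = b' * y ^ k * (b * b') * y * b := by simp only [mul_assoc]
        _ = b' * (y ^ k * y) * b := by rw [h]; simp only [mul_assoc, one_mul]
  rw [key, hy, mul_one, h']

theorem exists_pow_cov {c i k : ℕ} (hi : i < 660) (h : dcOk c k = true) :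
    ∃ n ∈ ([6, 7, 10, 11, 15, 19] : List ℕ), ((getH i).toMat * (getT k).toMat) ^ n = 1 := by
  simp only [dcOk, Bool.and_eq_true, Nat.blt_eq] at h
  obtain ⟨⟨⟨⟨hd, h1⟩, h2⟩, hdr⟩, e⟩ := h
  have hinv := allBelow_spec chk_inv (c / 8192) h2
  simp only [Bool.and_eq_true, Nat.blt_eq] at hinv
  obtain ⟨hi2, e2⟩ := hinv
  have hb : (getH (c / 8192)).toMat * (getH (hInv (c / 8192))).toMat = 1 := by
    rw [← M7.toMat_mul (okH h2) (okH hi2), M7.eq_of_beq e2, toMat_id]
  obtain ⟨m, hm, he⟩ := inH_mul_getH _ h1 (inH_mul_getH _ hi ⟨c / 8192, h2, rfl⟩)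
  obtain ⟨n, hn, hp⟩ := exists_pow_coset hd hm
  refine ⟨n, hn, ?_⟩
  rw [← M7.eq_of_beq e, M7.toMat_mul (ok_mul _ _) (okH h2), M7.toMat_mul (okH h1) (okT hdr)]
  have h' : (getH (hInv (c / 8192))).toMat * (getH (c / 8192)).toMat = 1 := mul_eq_one_comm.1 hb
  have := pow_conj_eq_one hb h' hp
  rw [← he] at this
  simp only [← mul_assoc, h', one_mul] at this ⊢
  exact this

/-- Every element of `J₁` has order dividing one of 6, 7, 10, 11, 15, 19. -/
theorem exists_pow_eq_one {g : GL (Fin 7) (ZMod 11)} (hg : g ∈ Cfsg.Spor.J1) :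
    ∃ n ∈ ([6, 7, 10, 11, 15, 19] : List ℕ), g ^ n = 1 := by
  obtain ⟨i, k, hi, hk, hM⟩ := inCov_of_mem hg
  obtain ⟨n, hn, hp⟩ := exists_pow_cov hi (allBelow_spec chk_dc k hk)
  exact ⟨n, hn, Units.ext (by rw [Units.val_pow_eq_pow_val, Units.val_one, hM, hp])⟩

def w6 : List Bool := [true, false, false, true, true]
def w7 : List Bool := [false, false, false, false]
def w10 : List Bool := [true, false, false, false, true, true, true]
def w11 : List Bool := [false, true, true, false]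
def w15 : List Bool := [false, true, false, true, false, true, false, true, false, false]
def w19 : List Bool := [false, false, false, true]

/-- The element of `J₁` spelled by a word. -/
def wordG : List Bool → GL (Fin 7) (ZMod 11)
  | [] => 1
  | b :: w => (if b then jankoY else jankoX) * wordG w

/-- The packed value of a word. -/
noncomputable def wordP : List Bool → M7
  | [] => idM
  | b :: w => (if b then yM else xM).mul (wordP w)

theorem wordG_mem : ∀ w, wordG w ∈ Cfsg.Spor.J1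
  | [] => one_mem _
  | b :: w => mul_mem (Subgroup.subset_closure (by cases b <;> simp)) (wordG_mem w)

theorem wordP_spec : ∀ w, Ok (wordP w) ∧ (wordP w).toMat = (wordG w : GL (Fin 7) (ZMod 11))
  | [] => ⟨base_facts.1, by rw [wordP, toMat_id, wordG, Units.val_one]⟩
  | b :: w => by
    obtain ⟨ho, he⟩ := wordP_spec w
    cases b
    · refine ⟨ok_mul _ _, ?_⟩
      show (xM.mul (wordP w)).toMat = ((jankoX * wordG w : GL (Fin 7) (ZMod 11)) : Matrix _ _ _)
      rw [M7.toMat_mul base_facts.2.1 ho, he, toMat_x, Units.val_mul]; rfl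
    · refine ⟨ok_mul _ _, ?_⟩
      show (yM.mul (wordP w)).toMat = ((jankoY * wordG w : GL (Fin 7) (ZMod 11)) : Matrix _ _ _)
      rw [M7.toMat_mul base_facts.2.2.1 ho, he, toMat_y, Units.val_mul]; rfl

/-- Packed power. -/
noncomputable def powP (x : M7) : ℕ → M7
  | 0 => idM
  | n + 1 => (powP x n).mul x

theorem powP_spec {x : M7} (hx : Ok x) : ∀ n, Ok (powP x n) ∧ (powP x n).toMat = x.toMat ^ n
  | 0 => ⟨base_facts.1, by rw [powP, toMat_id, pow_zero]⟩
  | n + 1 => ⟨ok_mul _ _, by rw [powP, M7.toMat_mul (powP_spec hx n).1 hx, (powP_spec hx n).2, pow_succ]⟩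

theorem orderOf_word (w : List Bool) (n : ℕ) (hn : 0 < n)
    (h : (powP (wordP w) n).beq idM = true)
    (h' : ∀ m < n, 0 < m → (powP (wordP w) m).beq idM = false) :
    orderOf (⟨wordG w, wordG_mem w⟩ : Cfsg.Spor.J1) = n := by
  rw [orderOf_eq_iff hn]
  obtain ⟨ho, he⟩ := wordP_spec w
  refine ⟨Subtype.ext (Units.ext ?_), fun m hm hm0 e => ?_⟩
  · rw [Subgroup.coe_pow, Units.val_pow_eq_pow_val, ← he, ← (powP_spec ho n).2, M7.eq_of_beq h,
      toMat_id]; rfl
  · have e1 : ((wordG w ^ m : GL (Fin 7) (ZMod 11)) : Matrix (Fin 7) (Fin 7) (ZMod 11)) = 1 := by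
      have := congrArg Subtype.val e
      rw [show wordG w ^ m = 1 from this, Units.val_one]
    rw [Units.val_pow_eq_pow_val, ← he, ← (powP_spec ho m).2, ← toMat_id] at e1
    have := h' m hm hm0
    rw [M7.toMat_inj (powP_spec ho m).1 base_facts.1 e1] at this
    revert this
    decide +kernel

theorem exists_orderOf_max : ∀ n ∈ ([6, 7, 10, 11, 15, 19] : List ℕ),
    ∃ g : Cfsg.Spor.J1, orderOf g = n := by
  intro n hn
  fin_cases hn
  · exact ⟨_, orderOf_word w6 6 (by norm_num) (by decide +kernel) (by decide +kernel)⟩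
  · exact ⟨_, orderOf_word w7 7 (by norm_num) (by decide +kernel) (by decide +kernel)⟩
  · exact ⟨_, orderOf_word w10 10 (by norm_num) (by decide +kernel) (by decide +kernel)⟩
  · exact ⟨_, orderOf_word w11 11 (by norm_num) (by decide +kernel) (by decide +kernel)⟩
  · exact ⟨_, orderOf_word w15 15 (by norm_num) (by decide +kernel) (by decide +kernel)⟩
  · exact ⟨_, orderOf_word w19 19 (by norm_num) (by decide +kernel) (by decide +kernel)⟩

/-- The spectrum of `J₁`. -/
theorem range_orderOf : Set.range (orderOf : Cfsg.Spor.J1 → ℕ) =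
    {n | ∃ m ∈ ([6, 7, 10, 11, 15, 19] : List ℕ), n ∣ m} := by
  ext n
  constructor
  · rintro ⟨g, rfl⟩
    obtain ⟨m, hm, h⟩ := exists_pow_eq_one g.2
    exact ⟨m, hm, orderOf_dvd_of_pow_eq_one (Subtype.ext (by simpa using h))⟩
  · rintro ⟨m, hm, c, rfl⟩
    obtain ⟨g, hg⟩ := exists_orderOf_max _ hm
    have hc : c ≠ 0 := by
      rintro rfl
      simp at hm
    exact ⟨g ^ c, by rw [orderOf_pow' g hc, hg, Nat.gcd_mul_left_left, Nat.mul_div_cancel _ (Nat.pos_of_ne_zero hc)]⟩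

end Cfsg.Agent.J1
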